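import Cfsg.Agent.Lib.OffenderSL2.Spread

/-!
* `Setting.exists_natural`: `P ≅ SL₂(F)`, with `V` modulo the fixed points the natural module
-/

set_option autoImplicit false

namespace Cfsg.Agent.OffenderSL2

open Subgroup

variable {P : Type*} [Group P] {V : Type*} [AddCommGroup V] (σ : P →* AddMonoid.End V)

/-- The action on the quotient by the fixed points. -/
def quotAct : P →* AddMonoid.End (V ⧸ fixS σ (⊤ : Subgroup P)) where
  toFun g := QuotientAddGroup.map _ _ (σ g) fun v hv => show σ g v ∈ fixS σ (⊤ : Subgroup P) by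
    rwa [apply_mem_fix_top g hv]
  map_one' := AddMonoidHom.ext fun w => QuotientAddGroup.induction_on w fun v => by
    show ((σ 1 v : V) : V ⧸ fixS σ (⊤ : Subgroup P)) = v
    rw [app_one]
  map_mul' g g' := AddMonoidHom.ext fun w => QuotientAddGroup.induction_on w fun v => by
    show ((σ (g * g') v : V) : V ⧸ fixS σ (⊤ : Subgroup P)) = (σ g (σ g' v) : V)
    rw [app_mul]

theorem quotAct_mk (g : P) (v : V) :
    quotAct σ g (v : V ⧸ fixS σ (⊤ : Subgroup P)) = (σ g v : V) := rfl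

variable {σ} [Finite P] [Finite V] {p : ℕ} [Fact p.Prime] {T : Sylow p P} {M A : Subgroup P}

theorem Setting.exists_moved (h : Setting σ p T M A) :
    ∃ v ∈ fixS σ A, v ∉ fixS σ (⊤ : Subgroup P) := by
  obtain ⟨v, hv, hv'⟩ := h.moved
  exact ⟨v, fix_le h.le_sylow hv, hv'⟩

theorem Setting.spread (h : Setting σ p T M A) {x : P} (hx : x ∉ M) :
    Spread (quotAct σ) A (cj A x)
      ((fixS σ A).map (QuotientAddGroup.mk' (fixS σ (⊤ : Subgroup P))))
      ((fixS σ (cj A x)).map (QuotientAddGroup.mk' (fixS σ (⊤ : Subgroup P)))) := by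
  obtain ⟨hQ, free, hsum, honto, hstab⟩ := h.structure_mod_fix
  set Z := fixS σ (⊤ : Subgroup P) with hZ
  have hmk : ∀ u v : V, u - v ∈ Z ↔ (u : V ⧸ Z) = v := fun u v => (QuotientAddGroup.eq_iff_sub_mem).symm
  have hx' : x⁻¹ ∉ M := fun e => hx (by simpa using inv_mem e)
  have hinvZ : ∀ {g : P} {v : V}, σ g v ∈ Z → v ∈ Z := fun {g v} hv => by
    rw [← app_inv_self (σ := σ) g v, apply_mem_fix_top g⁻¹ hv]; exact hv
  obtain ⟨v₁, hv₁, hv₁'⟩ := h.exists_moved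
  refine
    { gen := h.gen x hx
      faith := (injective_iff_map_eq_one _).2 fun g hg => ?_
      inf := (AddSubgroup.eq_bot_iff_forall _).2 ?_
      sup := ?_
      ne := fun e => hv₁' ?_
      neL := fun e => hv₁' ?_
      card := (card_map_of_injective (MulAut.conj x).injective).symm
      fixK := ?_
      fixL := ?_
      intoK := ?_
      intoL := ?_
      ontoK := ?_
      ontoL := ?_
      freeA := ?_
      freeB := ?_
      transfer := ?_ }
  · -- faithful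
    have hN : (quotAct σ).ker ≤ Cfsg.pCore p P := by
      obtain ⟨N₀, hN₀⟩ := exists_exponent (p := p) h.exponent
      refine PReduced.le_pCore (MonoidHom.normal_ker _) fun n => ⟨N₀, Subtype.ext ?_⟩
      rw [SubmonoidClass.coe_pow, OneMemClass.coe_one]
      refine h.faith _ fun v => ?_
      have hd : σ (n : P) v - v ∈ Z := by
        rw [hmk, ← quotAct_mk, MonoidHom.mem_ker.1 n.2]; rfl
      have hpow : ∀ k : ℕ, σ ((n : P) ^ k) v = v + k • (σ (n : P) v - v) := by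
        intro k
        induction k with
        | zero => rw [pow_zero, app_one, zero_nsmul, add_zero]
        | succ k ih =>
          rw [pow_succ', app_mul, ih, map_add, map_nsmul, apply_mem_fix_top _ hd, succ_nsmul]
          abel
      rw [hpow, hN₀, add_zero]
    rw [hQ] at hN
    exact Subgroup.mem_bot.1 (hN hg)
  · rintro w ⟨⟨k, hk, rfl⟩, l, hl, hlk⟩
    have h1 : l - k ∈ Z := (hmk l k).2 hlk
    have h2 : k ∈ fixS σ (cj A x) := by
      rw [show k = l - (l - k) by abel]; exact sub_mem hl (fix_le le_top h1)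
    exact (QuotientAddGroup.eq_zero_iff k).2 (h.fix_inf hx hk h2)
  · rw [← AddSubgroup.map_sup, hsum x hx]
    exact AddSubgroup.map_top_of_surjective _ (QuotientAddGroup.mk'_surjective _)
  · have : ((v₁ : V) : V ⧸ Z) ∈ (fixS σ A).map (QuotientAddGroup.mk' Z) := ⟨v₁, hv₁, rfl⟩
    rw [e, AddSubgroup.mem_bot] at this
    exact (QuotientAddGroup.eq_zero_iff v₁).1 this
  · have : ((σ x v₁ : V) : V ⧸ Z) ∈ (fixS σ (cj A x)).map (QuotientAddGroup.mk' Z) :=
      ⟨σ x v₁, apply_mem_fix_cj x hv₁, rfl⟩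
    rw [e, AddSubgroup.mem_bot] at this
    exact hinvZ ((QuotientAddGroup.eq_zero_iff _).1 this)
  · rintro a ha _ ⟨k, hk, rfl⟩
    exact congrArg _ (hk a ha)
  · rintro b hb _ ⟨l, hl, rfl⟩
    exact congrArg _ (hl b hb)
  · rintro a ha _ ⟨l, -, rfl⟩
    exact ⟨σ a l - l, h.comm_mem_fix ha l, rfl⟩
  · rintro b hb _ ⟨k, -, rfl⟩
    exact ⟨σ b k - k, h.comm_mem_fix_cj hb k, rfl⟩
  · rintro _ ⟨l, hl, rfl⟩ hl0 _ ⟨k, hk, rfl⟩
    obtain ⟨a, ha, haz⟩ := honto x hx l hl (fun e => hl0 ((QuotientAddGroup.eq_zero_iff l).2 e)) k hk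
    exact ⟨a, ha, (hmk _ _).1 haz⟩
  · rintro _ ⟨k, hk, rfl⟩ hk0 _ ⟨l, hl, rfl⟩
    obtain ⟨a, ha, haz⟩ := honto x⁻¹ hx' (σ x⁻¹ k) (apply_mem_fix_cj _ hk)
      (fun e => hk0 ((QuotientAddGroup.eq_zero_iff k).2 (hinvZ e))) (σ x⁻¹ l) (mem_fix_cj.1 hl)
    refine ⟨x * a * x⁻¹, ⟨a, ha, rfl⟩, (hmk _ _).1 ?_⟩
    have h1 := haz
    rw [← apply_mem_fix_top x haz] at h1
    rwa [map_sub, map_sub, app_self_inv, app_self_inv, ← app_mul, ← app_mul] at h1
  · rintro a ha ha1 _ ⟨l, hl, rfl⟩ he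
    exact (QuotientAddGroup.eq_zero_iff l).2 (h.fix_inf hx (free a ha ha1 l ((hmk _ _).2 he)) hl)
  · rintro b ⟨a, ha, rfl⟩ hb1 _ ⟨k, hk, rfl⟩ he
    have ha1 : a ≠ 1 := fun e => hb1 (by rw [e, map_one])
    have h1 : σ (x * a * x⁻¹) k - k ∈ Z := (hmk _ _).2 he
    refine (QuotientAddGroup.eq_zero_iff k).2 (h.fix_inf hx hk (mem_fix_cj.2 (free a ha ha1 _ (hinvZ (g := x) ?_))))
    rwa [map_sub, app_self_inv, ← app_mul, ← app_mul]
  · intro a ha ha1
    set l₀ := σ x v₁ with hl₀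
    have hl₀B : l₀ ∈ fixS σ (cj A x) := apply_mem_fix_cj x hv₁
    have hl₀Z : l₀ ∉ Z := fun e => hv₁' (hinvZ e)
    set k₀ := σ a l₀ - l₀ with hk₀
    have hk₀A : k₀ ∈ fixS σ A := h.comm_mem_fix ha l₀
    have hk₀Z : k₀ ∉ Z := fun e => hl₀Z (h.fix_inf hx (free a ha ha1 l₀ e) hl₀B)
    obtain ⟨a', ha', haz⟩ := honto x⁻¹ hx' (σ x⁻¹ k₀) (apply_mem_fix_cj _ hk₀A) (fun e => hk₀Z (hinvZ e))
      (σ x⁻¹ l₀) (mem_fix_cj.1 hl₀B)
    set b := x * a' * x⁻¹ with hb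
    have hbz : σ b k₀ - k₀ - l₀ ∈ Z := by
      have h1 := haz
      rw [← apply_mem_fix_top x haz] at h1
      rwa [map_sub, map_sub, app_self_inv, app_self_inv, ← app_mul, ← app_mul] at h1
    set g := x⁻¹ * (a⁻¹ * b) with hg
    have hgk : σ g k₀ ∈ fixS σ A := by
      have e1 : σ b k₀ = σ a l₀ + (σ b k₀ - k₀ - l₀) := by rw [hk₀]; abel
      rw [hg, app_mul, app_mul, e1, map_add, map_add, app_inv_self, apply_mem_fix_top a⁻¹ hbz,
        apply_mem_fix_top x⁻¹ hbz]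
      exact add_mem (mem_fix_cj.1 hl₀B) (fix_le le_top hbz)
    have hgM : g ∈ M := by
      by_contra hgM
      refine hk₀Z (h.fix_inf (x := g⁻¹) (fun e => hgM (by simpa using inv_mem e)) hk₀A (mem_fix_cj.2 ?_))
      rwa [inv_inv]
    refine ⟨b, ⟨a', ha', rfl⟩, ?_⟩
    rintro _ ⟨k, hk, rfl⟩
    refine ⟨_, ⟨σ x (σ g k), apply_mem_fix_cj x (hstab g hgM k hk), rfl⟩, ?_⟩
    show ((σ a (σ x (σ g k)) : V) : V ⧸ Z) = (σ b k : V)
    rw [← app_mul, ← app_mul, hg]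
    congr 3
    group

/-- The natural module. -/
theorem Setting.exists_natural (h : Setting σ p T M A) :
    ∃ (F : Type) (_ : Field F) (_ : Fintype F), Fintype.card F = Nat.card ↥A ∧
      ∃ (e : P ≃* Matrix.SpecialLinearGroup (Fin 2) F) (ψ : V →+ (Fin 2 → F)),
        Function.Surjective ψ ∧ (∀ v, ψ v = 0 ↔ v ∈ fixS σ (⊤ : Subgroup P)) ∧
        ∀ g v, ψ (σ g v) = (e g).1.mulVec (ψ v) := by
  obtain ⟨x, hx⟩ := h.exists_not_mem
  have hp : ∀ w : V ⧸ fixS σ (⊤ : Subgroup P), ∃ k : ℕ, p ^ k • w = 0 := fun w =>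
    QuotientAddGroup.induction_on w fun v => by
      obtain ⟨k, hk⟩ := h.exponent v
      exact ⟨k, by rw [← QuotientAddGroup.mk_nsmul, hk]; rfl⟩
  obtain ⟨F, i1, i2, hF, e, Φ, hΦ⟩ := (h.spread hx).exists_sl2 hp
  refine ⟨F, i1, i2, hF, e, Φ.symm.toAddMonoidHom.comp (QuotientAddGroup.mk' _),
    Φ.symm.surjective.comp (QuotientAddGroup.mk'_surjective _), fun v => ?_, fun g v => ?_⟩
  · show Φ.symm (v : V ⧸ fixS σ (⊤ : Subgroup P)) = 0 ↔ _
    rw [EmbeddingLike.map_eq_zero_iff, QuotientAddGroup.eq_zero_iff]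
  · show Φ.symm (quotAct σ g (v : V ⧸ fixS σ (⊤ : Subgroup P))) = _
    apply Φ.injective
    rw [Φ.apply_symm_apply, ← hΦ]
    show _ = quotAct σ g (Φ (Φ.symm (v : V ⧸ fixS σ (⊤ : Subgroup P))))
    rw [Φ.apply_symm_apply]

/-- Fixed points of `A` are commutators and global fixed points. -/
theorem Setting.fix_le_comm (h : Setting σ p T M A) {k : V} (hk : k ∈ fixS σ A) :
    ∃ a ∈ A, ∃ l, ∃ z ∈ fixS σ (⊤ : Subgroup P), k = σ a l - l + z := by
  obtain ⟨x, hx⟩ := h.exists_not_mem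
  obtain ⟨v₁, hv₁, hv₁'⟩ := h.exists_moved
  obtain ⟨a, ha, hz⟩ := h.structure_mod_fix.2.2.2.1 x hx (σ x v₁) (apply_mem_fix_cj x hv₁)
    (fun e => hv₁' (by rw [← app_inv_self (σ := σ) x v₁, apply_mem_fix_top x⁻¹ e]; exact e)) k hk
  exact ⟨a, ha, σ x v₁, k - (σ a (σ x v₁) - σ x v₁), by simpa using neg_mem hz, by abel⟩

end Cfsg.Agent.OffenderSL2
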