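import Cfsg.Agent.Lib.PMinimal.Basic
import Cfsg.Agent.Lib.PReduced.Tools

/-!
A minimal offender `A` in a `p`-minimal group `P` generated by two conjugates of `A`.

* `Setting.quad`: `A` acts quadratically
* `Setting.free`, `Setting.split`, `Setting.onto`, `Setting.pCore_eq_bot`: `V` modulo the fixed points
  is the sum of two fixed spaces interchanged simply transitively
-/

set_option autoImplicit false

namespace Cfsg.Agent.OffenderSL2

open Subgroup

variable {P : Type*} [Group P] {V : Type*} [AddCommGroup V]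

/-- Fixed points. -/
def fixS (σ : P →* AddMonoid.End V) (H : Subgroup P) : AddSubgroup V where
  carrier := {v | ∀ h ∈ H, σ h v = v}
  zero_mem' := fun h _ => map_zero _
  add_mem' := fun {a b} ha hb h hh => by rw [map_add, ha h hh, hb h hh]
  neg_mem' := fun {a} ha h hh => by rw [map_neg, ha h hh]

/-- A conjugate subgroup. -/
abbrev cj (A : Subgroup P) (x : P) : Subgroup P := A.map (MulAut.conj x).toMonoidHom

variable {σ : P →* AddMonoid.End V}

theorem app_mul (g h : P) (v : V) : σ (g * h) v = σ g (σ h v) := by rw [map_mul]; rfl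

theorem app_one (v : V) : σ 1 v = v := by rw [map_one]; rfl

theorem app_inv_self (g : P) (v : V) : σ g⁻¹ (σ g v) = v := by rw [← app_mul, inv_mul_cancel, app_one]

theorem app_self_inv (g : P) (v : V) : σ g (σ g⁻¹ v) = v := by rw [← app_mul, mul_inv_cancel, app_one]

theorem mem_cj {A : Subgroup P} {x g : P} : g ∈ cj A x ↔ x⁻¹ * g * x ∈ A := by
  constructor
  · rintro ⟨a, ha, rfl⟩
    simpa [mul_assoc] using ha
  · exact fun h => ⟨_, h, by simp [mul_assoc]⟩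

theorem cj_cj (A : Subgroup P) (x y : P) : cj (cj A x) y = cj A (y * x) := by
  ext g
  simp [mem_cj, mul_assoc]

theorem mem_fix_cj {A : Subgroup P} {x : P} {v : V} : v ∈ fixS σ (cj A x) ↔ σ x⁻¹ v ∈ fixS σ A := by
  constructor
  · intro h a ha
    have h1 := h (x * a * x⁻¹) ⟨a, ha, rfl⟩
    rw [app_mul, app_mul] at h1
    have h2 := congrArg (σ x⁻¹) h1
    rwa [app_inv_self] at h2
  · rintro h g hg
    have h1 := congrArg (σ x) (h _ (mem_cj.1 hg))
    rwa [← app_mul, ← app_mul, app_self_inv, show x * (x⁻¹ * g * x) * x⁻¹ = g by group] at h1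

theorem apply_mem_fix_cj {A : Subgroup P} (x : P) {v : V} (hv : v ∈ fixS σ A) : σ x v ∈ fixS σ (cj A x) :=
  mem_fix_cj.2 (by rwa [app_inv_self])

theorem fix_le {A B : Subgroup P} (h : A ≤ B) : fixS σ B ≤ fixS σ A := fun _ hv a ha => hv a (h ha)

theorem fix_sup (A B : Subgroup P) {v : V} (ha : v ∈ fixS σ A) (hb : v ∈ fixS σ B) : v ∈ fixS σ (A ⊔ B) := by
  intro g hg
  rw [sup_eq_closure] at hg
  induction hg using closure_induction with
  | mem x hx => exact hx.elim (ha x) (hb x)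
  | one => exact app_one v
  | mul a b _ _ iha ihb => rw [app_mul, ihb, iha]
  | inv a _ ih =>
    conv_lhs => rw [← ih]
    rw [app_inv_self]

theorem apply_mem_fix_top (g : P) {v : V} (hv : v ∈ fixS σ (⊤ : Subgroup P)) : σ g v = v := hv g (mem_top g)

variable (σ) in
/-- The hypotheses. -/
structure Setting (p : ℕ) (T : Sylow p P) (M A : Subgroup P) : Prop where
  exponent : ∀ v : V, ∃ k : ℕ, p ^ k • v = 0
  faith : ∀ g : P, (∀ v, σ g v = v) → g = 1
  pmin : Cfsg.IsPMinimal p P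
  coatom : IsCoatom M
  sylow_le : (T : Subgroup P) ≤ M
  le_sylow : A ≤ (T : Subgroup P)
  comm : ∀ a ∈ A, ∀ b ∈ A, a * b = b * a
  offender : Nat.card V ≤ Nat.card ↥A * Nat.card ↥(fixS σ A)
  strict : ∀ A₀ : Subgroup P, A₀ ≤ A → A₀ ≠ ⊥ → A₀ ≠ A →
    Nat.card ↥A₀ * Nat.card ↥(fixS σ A₀) < Nat.card ↥A * Nat.card ↥(fixS σ A)
  moved : ∃ v ∈ fixS σ (T : Subgroup P), v ∉ fixS σ (⊤ : Subgroup P)
  gen : ∀ x, x ∉ M → A ⊔ cj A x = ⊤

variable [Finite P] [Finite V] {p : ℕ} [Fact p.Prime] {T : Sylow p P} {M A : Subgroup P}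

theorem card_quotient_mul (A₀ A : Subgroup P) (h : A₀ ≤ A) :
    Nat.card (↥A ⧸ A₀.subgroupOf A) * Nat.card ↥A₀ = Nat.card ↥A := by
  rw [← Nat.card_congr (subgroupOfEquivOfLe h).toEquiv, ← card_eq_card_quotient_mul_card_subgroup]

/-- An injection of `A ⧸ A₀` into `fix A₀ ⧸ fix A` contradicts strictness. -/
theorem Setting.not_embed (h : Setting σ p T M A) {A₀ : Subgroup P} (hle : A₀ ≤ A) (h0 : A₀ ≠ ⊥) (hA : A₀ ≠ A)
    (f : ↥A → V) (hf : ∀ a, f a ∈ fixS σ A₀)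
    (hsep : ∀ a b, f a - f b ∈ fixS σ A → ((a⁻¹ * b : ↥A) : P) ∈ A₀) : False := by
  classical
  refine absurd (h.strict A₀ hle h0 hA) (not_lt.2 ?_)
  let K₀ := (fixS σ A).addSubgroupOf (fixS σ A₀)
  let g : ↥A ⧸ A₀.subgroupOf A → ↥(fixS σ A₀) ⧸ K₀ := fun q => QuotientAddGroup.mk ⟨f q.out, hf _⟩
  have hg : Function.Injective g := by
    intro q r hqr
    rw [← QuotientGroup.out_eq' q, ← QuotientGroup.out_eq' r, QuotientGroup.eq]
    have h1 := QuotientAddGroup.eq.1 hqr.symm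
    rw [AddSubgroup.mem_addSubgroupOf] at h1
    refine Subgroup.mem_subgroupOf.2 (hsep _ _ ?_)
    convert h1 using 1
    simp [sub_eq_neg_add]
  have h1 := Nat.card_le_card_of_injective g hg
  have h2 : Nat.card ↥(fixS σ A₀) = Nat.card (↥(fixS σ A₀) ⧸ K₀) * Nat.card ↥(fixS σ A) := by
    rw [AddSubgroup.card_eq_card_quotient_mul_card_addSubgroup K₀,
      Nat.card_congr (AddSubgroup.addSubgroupOfEquivOfLe (fix_le hle)).toEquiv]
  rw [h2, ← card_quotient_mul A₀ A hle]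
  calc Nat.card (↥A ⧸ A₀.subgroupOf A) * Nat.card ↥A₀ * Nat.card ↥(fixS σ A)
      ≤ Nat.card (↥(fixS σ A₀) ⧸ K₀) * Nat.card ↥A₀ * Nat.card ↥(fixS σ A) :=
        Nat.mul_le_mul_right _ (Nat.mul_le_mul_right _ h1)
    _ = Nat.card ↥A₀ * (Nat.card (↥(fixS σ A₀) ⧸ K₀) * Nat.card ↥(fixS σ A)) := by ring

/-- An injection of `A` into `V ⧸ fix A` is onto. -/
theorem Setting.embed_surj (h : Setting σ p T M A) (f : ↥A → V)
    (hsep : ∀ a b, f a - f b ∈ fixS σ A → a = b) (v : V) : ∃ a, v - f a ∈ fixS σ A := by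
  let g : ↥A → V ⧸ fixS σ A := fun a => QuotientAddGroup.mk (f a)
  have hg : Function.Injective g := fun a b hab => hsep a b (by
    have := QuotientAddGroup.eq.1 hab.symm
    rwa [← sub_eq_neg_add] at this)
  have hcard : Nat.card (V ⧸ fixS σ A) ≤ Nat.card ↥A := by
    refine Nat.le_of_mul_le_mul_right ?_ (Nat.card_pos : 0 < Nat.card ↥(fixS σ A))
    rw [← AddSubgroup.card_eq_card_quotient_mul_card_addSubgroup]
    exact h.offender
  have hb : Function.Bijective g :=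
    (Nat.bijective_iff_injective_and_card g).2 ⟨hg, le_antisymm (Nat.card_le_card_of_injective g hg) hcard⟩
  obtain ⟨a, ha⟩ := hb.2 (v : V ⧸ fixS σ A)
  refine ⟨a, ?_⟩
  have := QuotientAddGroup.eq.1 ha
  rwa [← sub_eq_neg_add] at this

theorem Setting.exists_not_mem (h : Setting σ p T M A) : ∃ x, x ∉ M := by
  by_contra hc
  push Not at hc
  exact h.coatom.1 (eq_top_iff.2 fun x _ => hc x)

theorem Setting.le_M (h : Setting σ p T M A) : A ≤ M := h.le_sylow.trans h.sylow_le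

theorem Setting.fix_inf (h : Setting σ p T M A) {x : P} (hx : x ∉ M) {v : V} (h1 : v ∈ fixS σ A)
    (h2 : v ∈ fixS σ (cj A x)) : v ∈ fixS σ (⊤ : Subgroup P) := h.gen x hx ▸ fix_sup _ _ h1 h2

theorem Setting.not_le_pCore (h : Setting σ p T M A) : ¬ A ≤ Cfsg.pCore p P := by
  intro hA
  obtain ⟨x, hx⟩ := h.exists_not_mem
  refine h.coatom.1 (top_le_iff.1 ?_)
  rw [← h.gen x hx]
  have hn := PReduced.pCore_normal p P
  refine le_trans ?_ ((PReduced.pCore_le_sylow T).trans h.sylow_le)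
  refine sup_le hA ?_
  rintro _ ⟨a, ha, rfl⟩
  exact hn.conj_mem a (hA ha) x

/-- `A` is quadratic. -/
theorem Setting.quad (h : Setting σ p T M A) : ∀ a ∈ A, ∀ b ∈ A, ∀ v, σ a (σ b v - v) = σ b v - v := by
  suffices key : ∀ v : V, ∀ d ∈ A, ∀ b ∈ A, σ d (σ b v - v) = σ b v - v from fun a ha b hb v => key v a ha b hb
  intro v
  by_contra hcon
  let A₀ : Subgroup P :=
    { carrier := {d | d ∈ A ∧ ∀ b ∈ A, σ d (σ b v - v) = σ b v - v}
      one_mem' := ⟨one_mem A, fun b _ => app_one _⟩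
      mul_mem' := fun {d e} hd he => ⟨mul_mem hd.1 he.1, fun b hb => by rw [app_mul, he.2 b hb, hd.2 b hb]⟩
      inv_mem' := fun {d} hd => ⟨inv_mem hd.1, fun b hb => by
        conv_lhs => rw [← hd.2 b hb]
        rw [app_inv_self]⟩ }
  have hA : A₀ ≠ A := fun e => hcon fun d hd b hb => ((e.ge hd : d ∈ A₀)).2 b hb
  let f : ↥A → V := fun a => σ (a : P) v - v
  have hsep : ∀ a b : ↥A, f a - f b ∈ fixS σ A → ((a⁻¹ * b : ↥A) : P) ∈ A₀ := by
    intro a b hab
    refine ⟨(a⁻¹ * b).2, fun c hc => ?_⟩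
    have hd := hab c hc
    simp only [f, map_sub] at hd
    rw [← app_mul, ← app_mul, h.comm c hc a a.2, h.comm c hc b b.2, app_mul, app_mul] at hd
    have hab' : σ (b : P) (σ c v - v) = σ (a : P) (σ c v - v) := by
      rw [map_sub, map_sub]
      calc σ (b : P) (σ c v) - σ (b : P) v = σ (a : P) (σ c v) - σ (a : P) v -
            (σ (a : P) (σ c v) - σ c v - (σ (b : P) (σ c v) - σ c v) - (σ (a : P) v - v - (σ (b : P) v - v))) := by abel
        _ = σ (a : P) (σ c v) - σ (a : P) v := by rw [hd, sub_self, sub_zero]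
    rw [Subgroup.coe_mul, Subgroup.coe_inv, app_mul, hab', app_inv_self]
  by_cases h0 : A₀ = ⊥
  · obtain ⟨a, ha⟩ := h.embed_surj f (fun a b hab => by
      have := hsep a b hab
      rw [h0, Subgroup.mem_bot] at this
      exact inv_mul_eq_one.1 (Subtype.ext this)) v
    have hk : v - (σ (a : P) v - v) ∈ fixS σ A := ha
    set k := v - (σ (a : P) v - v) with hkdef
    have h2 : σ (a : P) v = 2 • v - k := by rw [hkdef, two_nsmul]; abel
    have hpow : ∀ n : ℕ, σ ((a : P) ^ n) v - k = (2 ^ n : ℕ) • (v - k) := by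
      intro n
      induction n with
      | zero => rw [pow_zero, app_one, pow_zero, one_nsmul]
      | succ n ih =>
        have h3 : σ (a : P) (v - k) = 2 • (v - k) := by
          rw [map_sub, h2, hk a a.2, smul_sub, two_nsmul k]; abel
        have h4 : σ ((a : P) ^ (n + 1)) v - k = σ (a : P) (σ ((a : P) ^ n) v - k) := by
          rw [map_sub, hk a a.2, pow_succ', app_mul]
        rw [h4, ih, map_nsmul, h3, ← mul_nsmul', pow_succ]
    have hvk : v - k = 0 := by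
      obtain ⟨j, hj⟩ := T.isPGroup' ⟨a, h.le_sylow a.2⟩
      have hp := hpow (p ^ j)
      rw [show ((a : P) ^ p ^ j) = 1 from congrArg Subtype.val hj, app_one] at hp
      obtain ⟨i, hi⟩ := h.exponent (v - k)
      have hpos : 1 ≤ 2 ^ p ^ j := Nat.one_le_two_pow
      have h1 : (2 ^ p ^ j - 1) • (v - k) = 0 := by
        rw [sub_nsmul _ hpos, ← hp, one_nsmul, add_neg_cancel]
      have h2 : ((2 ^ p ^ j - 1 : ℕ) : ZMod p) = 1 := by
        rw [Nat.cast_sub hpos, Nat.cast_pow, ZMod.pow_card_pow]; norm_num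
      have h3 : Nat.Coprime (2 ^ p ^ j - 1) (p ^ i) := by
        refine Nat.Coprime.pow_right _ ((Fact.out : p.Prime).coprime_iff_not_dvd.2 fun hd => ?_).symm
        rw [(ZMod.natCast_eq_zero_iff _ _).2 hd] at h2
        exact zero_ne_one h2
      exact AddMonoid.addOrderOf_eq_one_iff.1 (Nat.eq_one_of_dvd_coprimes h3
        (addOrderOf_dvd_of_nsmul_eq_zero h1) (addOrderOf_dvd_of_nsmul_eq_zero hi))
    refine hcon fun d _ b hb => ?_
    rw [sub_eq_zero.1 hvk, hk b hb, sub_self, map_zero]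
  · exact h.not_embed (show A₀ ≤ A from fun d hd => hd.1) h0 hA f (fun a d hd => (show d ∈ A ∧ _ from hd).2 a a.2) hsep

theorem Setting.comm_mem_fix (h : Setting σ p T M A) {a : P} (ha : a ∈ A) (v : V) : σ a v - v ∈ fixS σ A :=
  fun b hb => h.quad b hb a ha v

theorem Setting.comm_mem_fix_cj (h : Setting σ p T M A) {x b : P} (hb : b ∈ cj A x) (v : V) :
    σ b v - v ∈ fixS σ (cj A x) := by
  rw [mem_fix_cj, map_sub]
  have := h.comm_mem_fix (mem_cj.1 hb) (σ x⁻¹ v)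
  rwa [← app_mul, show x⁻¹ * b * x * x⁻¹ = x⁻¹ * b by group, app_mul] at this

/-- An element fixing `w` modulo fixed points, outside some conjugate of `M`. -/
theorem Setting.moves (h : Setting σ p T M A) {a y : P} (hay : a ∉ cj M y) {w : V}
    (hw : w ∈ fixS σ (cj A y)) (hz : σ a w - w ∈ fixS σ (⊤ : Subgroup P)) : w ∈ fixS σ (⊤ : Subgroup P) := by
  have hz' : y⁻¹ * a * y ∉ M := fun e => hay (mem_cj.2 e)
  have hgen : cj A y ⊔ cj (cj A y) a = ⊤ := by
    have := congrArg (fun H => cj H y) (h.gen _ hz')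
    simp only [cj, Subgroup.map_sup] at this
    rw [map_top_of_surjective _ (MulAut.conj y).surjective, ← cj, ← cj, ← cj, cj_cj,
      show y * (y⁻¹ * a * y) = a * y by group] at this
    rwa [cj_cj]
  refine hgen ▸ fix_sup _ _ hw (mem_fix_cj.2 fun b hb => ?_)
  set z := σ a w - w with hzdef
  have h1 : σ a⁻¹ w = w - z := by
    have : σ a (w - z) = w := by rw [map_sub, apply_mem_fix_top a hz, hzdef, sub_sub_cancel]
    conv_lhs => rw [← this]
    rw [app_inv_self]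
  rw [h1, map_sub, hw b hb, apply_mem_fix_top b hz]

theorem Setting.exists_not_mem_cj (h : Setting σ p T M A) {a : P} (ha : a ∈ A) (hQ : a ∉ Cfsg.pCore p P) :
    ∃ y, y ∉ M ∧ a ∉ cj M y := by
  by_contra hc
  push Not at hc
  refine hQ (PMinimal.sylow_inf_normal_le_pCore T h.coatom h.sylow_le h.pmin M.normalCore M.normalCore_le
    ⟨fun g => ?_, h.le_sylow ha⟩)
  by_cases hg : g ∈ M
  · exact mul_mem (mul_mem hg (h.le_M ha)) (inv_mem hg)
  · have := mem_cj.1 (hc g⁻¹ (fun e => hg (by simpa using inv_mem e)))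
    simpa using this

/-- The module `[v₀, P]` plus fixed points is fixed by `O_p(P)` and splits. -/
theorem Setting.exists_split_module (h : Setting σ p T M A) : ∃ Y : AddSubgroup V,
    fixS σ (⊤ : Subgroup P) ≤ Y ∧ Y ≠ fixS σ (⊤ : Subgroup P) ∧ (∀ g, ∀ v ∈ Y, σ g v ∈ Y) ∧
      Y ≤ fixS σ (Cfsg.pCore p P) ∧
        ∀ x, x ∉ M → Y ≤ (Y ⊓ fixS σ A) ⊔ (Y ⊓ fixS σ (cj A x)) := by
  obtain ⟨v₀, hv₀, hv₀'⟩ := h.moved
  set Z := fixS σ (⊤ : Subgroup P) with hZ
  set Y := AddSubgroup.closure (Set.range fun g => σ g v₀ - v₀) ⊔ Z with hY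
  have hgen : ∀ g, σ g v₀ - v₀ ∈ Y := fun g => AddSubgroup.mem_sup_left (AddSubgroup.subset_closure ⟨g, rfl⟩)
  have hinv : ∀ g, ∀ v ∈ Y, σ g v ∈ Y := by
    intro g v hv
    have hle : Y ≤ Y.comap (σ g) := by
      refine sup_le ((AddSubgroup.closure_le _).2 ?_) fun z hz => ?_
      · rintro _ ⟨k, rfl⟩
        show σ g (σ k v₀ - v₀) ∈ Y
        rw [map_sub, ← app_mul, show σ (g * k) v₀ - σ g v₀ = (σ (g * k) v₀ - v₀) - (σ g v₀ - v₀) by abel]
        exact sub_mem (hgen _) (hgen _)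
      · show σ g z ∈ Y
        rw [apply_mem_fix_top g hz]
        exact AddSubgroup.mem_sup_right hz
    exact hle hv
  refine ⟨Y, le_sup_right, fun hYZ => hv₀' ?_, hinv, ?_, fun x hx => ?_⟩
  · -- `v₀` would be fixed
    let f : P →* Multiplicative V := MonoidHom.mk' (fun g => Multiplicative.ofAdd (σ g v₀ - v₀)) fun g k => by
      rw [← ofAdd_add]
      congr 1
      rw [app_mul]
      have hk : σ g (σ k v₀ - v₀) = σ k v₀ - v₀ :=
        apply_mem_fix_top g (show σ k v₀ - v₀ ∈ fixS σ (⊤ : Subgroup P) from hYZ.le (hgen k))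
      rw [map_sub, sub_eq_iff_eq_add] at hk
      rw [hk]; abel
    have hTf : (T : Subgroup P) ≤ f.ker := fun t ht => MonoidHom.mem_ker.2 (by
      show Multiplicative.ofAdd (σ t v₀ - v₀) = 1
      rw [hv₀ t ht, sub_self]; rfl)
    intro g _
    have h1 : f.ker.index • (σ g v₀ - v₀) = 0 := by
      have h' : f (g ^ f.ker.index) = 1 := MonoidHom.mem_ker.1 (Subgroup.pow_index_mem _ _)
      rw [map_pow] at h'
      exact congrArg Multiplicative.toAdd h'
    have hcop : f.ker.index.Coprime p :=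
      ((Fact.out : p.Prime).coprime_iff_not_dvd.2 fun hd => T.not_dvd_index (hd.trans (index_dvd_of_le hTf))).symm
    obtain ⟨i, hi⟩ := h.exponent (σ g v₀ - v₀)
    have h2 : addOrderOf (σ g v₀ - v₀) = 1 :=
      Nat.eq_one_of_dvd_coprimes (hcop.pow_right i) (addOrderOf_dvd_of_nsmul_eq_zero h1)
        (addOrderOf_dvd_of_nsmul_eq_zero hi)
    exact sub_eq_zero.1 (AddMonoid.addOrderOf_eq_one_iff.1 h2)
  · refine sup_le ((AddSubgroup.closure_le _).2 ?_) (fix_le le_top)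
    rintro _ ⟨g, rfl⟩ q hq
    have hn := PReduced.pCore_normal p P
    have hq' : g⁻¹ * q * g ∈ (T : Subgroup P) := PReduced.pCore_le_sylow T (by
      simpa using hn.conj_mem q hq g⁻¹)
    show σ q (σ g v₀ - v₀) = σ g v₀ - v₀
    rw [map_sub, hv₀ q (PReduced.pCore_le_sylow T hq), ← app_mul,
      show q * g = g * (g⁻¹ * q * g) by group, app_mul, hv₀ _ hq']
  set N := (Y ⊓ fixS σ A) ⊔ (Y ⊓ fixS σ (cj A x)) with hN
  have hNA : ∀ a ∈ A, ∀ v ∈ N, σ a v ∈ N := by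
    intro a ha v hv
    obtain ⟨k, hk, l, hl, rfl⟩ := AddSubgroup.mem_sup.1 hv
    rw [map_add, hk.2 a ha, show σ a l = (σ a l - l) + l by abel]
    exact add_mem (AddSubgroup.mem_sup_left hk) (add_mem
      (AddSubgroup.mem_sup_left ⟨Y.sub_mem (hinv a l hl.1) hl.1, h.comm_mem_fix ha l⟩) (AddSubgroup.mem_sup_right hl))
  have hNB : ∀ b ∈ cj A x, ∀ v ∈ N, σ b v ∈ N := by
    intro b hb v hv
    obtain ⟨k, hk, l, hl, rfl⟩ := AddSubgroup.mem_sup.1 hv
    rw [map_add, hl.2 b hb, show σ b k = k + (σ b k - k) by abel]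
    exact add_mem (add_mem (AddSubgroup.mem_sup_left hk)
      (AddSubgroup.mem_sup_right ⟨Y.sub_mem (hinv b k hk.1) hk.1, h.comm_mem_fix_cj hb k⟩)) (AddSubgroup.mem_sup_right hl)
  have key : ∀ g : P, (∀ v ∈ N, σ g v ∈ N) ∧ σ g v₀ - v₀ ∈ N := by
    intro g
    have hg : g ∈ Submonoid.closure ((A : Set P) ∪ (cj A x : Set P)) := by
      rw [← Subgroup.closure_toSubmonoid_of_finite, Subgroup.mem_toSubmonoid, ← sup_eq_closure, h.gen x hx]
      exact mem_top g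
    induction hg using Submonoid.closure_induction with
    | mem y hy =>
      rcases hy with hy | hy
      · exact ⟨hNA y hy, by rw [hv₀ y (h.le_sylow hy), sub_self]; exact zero_mem N⟩
      · exact ⟨hNB y hy, AddSubgroup.mem_sup_right ⟨hgen y, h.comm_mem_fix_cj hy v₀⟩⟩
    | one => exact ⟨fun v hv => by rwa [app_one], by rw [app_one, sub_self]; exact zero_mem N⟩
    | mul a b _ _ iha ihb =>
      refine ⟨fun v hv => by rw [app_mul]; exact iha.1 _ (ihb.1 v hv), ?_⟩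
      rw [app_mul, show σ a (σ b v₀) - v₀ = σ a (σ b v₀ - v₀) + (σ a v₀ - v₀) by rw [map_sub]; abel]
      exact add_mem (iha.1 _ ihb.2) iha.2
  refine sup_le ((AddSubgroup.closure_le _).2 ?_) fun z hz =>
    AddSubgroup.mem_sup_left ⟨AddSubgroup.mem_sup_right hz, fix_le le_top hz⟩
  rintro _ ⟨g, rfl⟩
  exact (key g).2

/-- The structure of `V` modulo fixed points. -/
theorem Setting.structure_mod_fix (h : Setting σ p T M A) :
    Cfsg.pCore p P = ⊥ ∧
    (∀ a ∈ A, a ≠ 1 → ∀ v, σ a v - v ∈ fixS σ (⊤ : Subgroup P) → v ∈ fixS σ A) ∧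
    (∀ x, x ∉ M → fixS σ A ⊔ fixS σ (cj A x) = ⊤) ∧
    (∀ x, x ∉ M → ∀ l ∈ fixS σ (cj A x), l ∉ fixS σ (⊤ : Subgroup P) → ∀ k ∈ fixS σ A,
      ∃ a ∈ A, σ a l - l - k ∈ fixS σ (⊤ : Subgroup P)) ∧
    (∀ m ∈ M, ∀ k ∈ fixS σ A, σ m k ∈ fixS σ A) := by
  classical
  obtain ⟨Y, hZY, hYne, hinv, hYQ, hsplit⟩ := h.exists_split_module
  set Z := fixS σ (⊤ : Subgroup P) with hZdef
  set Q := Cfsg.pCore p P with hQdef
  have key2 : ∀ a ∈ A, a ∉ Q → ∀ w ∈ Y, σ a w - w ∈ Z → w ∈ fixS σ A := by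
    intro a ha haQ w hw hz
    obtain ⟨y, hy, hay⟩ := h.exists_not_mem_cj ha haQ
    obtain ⟨k, hk, l, hl, rfl⟩ := AddSubgroup.mem_sup.1 (hsplit y hy hw)
    refine add_mem hk.2 (fix_le le_top (h.moves hay hl.2 ?_))
    rwa [map_add, hk.2 a ha, add_sub_add_left_eq_sub] at hz
  have key3 : ∀ a ∈ A, ∀ x, x ∉ M → ∀ w ∈ Y, w ∈ fixS σ (cj A x) → w ∉ Z → σ a w - w ∈ Z → a ∈ Q := by
    intro a ha x hx w hw hwB hwZ hz
    by_contra haQ
    exact hwZ (h.fix_inf hx (key2 a ha haQ w hw hz) hwB)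
  have hex : ∀ x, x ∉ M → ∃ w ∈ Y, w ∈ fixS σ (cj A x) ∧ w ∉ Z := by
    intro x hx
    by_contra hc
    push Not at hc
    have hYK : Y ≤ fixS σ A := (hsplit x hx).trans
      (sup_le inf_le_right fun w hw => fix_le le_top (hc w hw.1 hw.2))
    exact hYne (le_antisymm (fun u hu => h.fix_inf hx (hYK hu) (mem_fix_cj.2 (hYK (hinv _ u hu)))) hZY)
  -- the embedding attached to `w`
  have hsep : ∀ x, x ∉ M → ∀ w ∈ Y, w ∈ fixS σ (cj A x) → w ∉ Z → ∀ a b : ↥A,
      σ x (σ (a : P) w - w) - σ x (σ (b : P) w - w) ∈ fixS σ A → ((a⁻¹ * b : ↥A) : P) ∈ Q := by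
    intro x hx w hw hwB hwZ a b hab
    rw [← map_sub] at hab
    set d := σ (a : P) w - w - (σ (b : P) w - w) with hd
    have hdA : d ∈ fixS σ A := sub_mem (h.comm_mem_fix a.2 w) (h.comm_mem_fix b.2 w)
    have hdZ : d ∈ Z := by
      have h1 : σ x d ∈ Z := h.fix_inf hx hab (apply_mem_fix_cj x hdA)
      rw [← app_inv_self (σ := σ) x d, apply_mem_fix_top x⁻¹ h1]
      exact h1
    refine key3 _ (a⁻¹ * b).2 x hx w hw hwB hwZ ?_
    rw [Subgroup.coe_mul, Subgroup.coe_inv, app_mul]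
    have h2 : σ (b : P) w = σ (a : P) w - d := by rw [hd]; abel
    rw [h2, map_sub, app_inv_self, apply_mem_fix_top _ hdZ, sub_sub_cancel_left]
    exact neg_mem hdZ
  obtain ⟨x₀, hx₀⟩ := h.exists_not_mem
  have hA₀ : A ⊓ Q = ⊥ := by
    by_contra hne
    obtain ⟨w, hw, hwB, hwZ⟩ := hex x₀ hx₀
    refine h.not_embed inf_le_left hne (fun e => h.not_le_pCore (e ▸ inf_le_right))
      (fun a => σ x₀ (σ (a : P) w - w))
      (fun a => fix_le inf_le_right (hYQ (hinv _ _ (sub_mem (hinv _ w hw) hw))))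
      fun a b hab => ⟨(a⁻¹ * b).2, hsep x₀ hx₀ w hw hwB hwZ a b hab⟩
  have hsep' : ∀ x, x ∉ M → ∀ w ∈ Y, w ∈ fixS σ (cj A x) → w ∉ Z → ∀ a b : ↥A,
      σ x (σ (a : P) w - w) - σ x (σ (b : P) w - w) ∈ fixS σ A → a = b := by
    intro x hx w hw hwB hwZ a b hab
    have : ((a⁻¹ * b : ↥A) : P) ∈ A ⊓ Q := ⟨(a⁻¹ * b).2, hsep x hx w hw hwB hwZ a b hab⟩
    rw [hA₀, Subgroup.mem_bot] at this
    exact inv_mul_eq_one.1 (Subtype.ext this)
  -- `V = Y`
  have hV : ∀ x, x ∉ M → ∀ v, ∃ d ∈ Y ⊓ fixS σ A, v - σ x d ∈ fixS σ A := by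
    intro x hx v
    obtain ⟨w, hw, hwB, hwZ⟩ := hex x hx
    obtain ⟨a, ha⟩ := h.embed_surj (fun a : ↥A => σ x (σ (a : P) w - w)) (hsep' x hx w hw hwB hwZ) v
    exact ⟨_, ⟨Y.sub_mem (hinv _ w hw) hw, h.comm_mem_fix a.2 w⟩, ha⟩
  have hKY : fixS σ A ≤ Y := by
    intro k hk
    have hx' : x₀⁻¹ ∉ M := fun e => hx₀ (by simpa using inv_mem e)
    obtain ⟨d, hd, hd'⟩ := hV x₀⁻¹ hx' (σ x₀⁻¹ k)
    have h1 : k - d ∈ fixS σ (cj A x₀) := by
      have := apply_mem_fix_cj x₀ hd'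
      rwa [map_sub, app_self_inv, app_self_inv] at this
    rw [← sub_add_cancel k d]
    exact add_mem (hZY (h.fix_inf hx₀ (sub_mem hk hd.2) h1)) hd.1
  have hYtop : ∀ v, v ∈ Y := by
    intro v
    obtain ⟨d, hd, hd'⟩ := hV x₀ hx₀ v
    rw [← sub_add_cancel v (σ x₀ d)]
    exact add_mem (hKY hd') (hinv _ _ hd.1)
  have hQ : Q = ⊥ := (eq_bot_iff_forall Q).2 fun q hq => h.faith q fun v => hYQ (hYtop v) q hq
  have free : ∀ a ∈ A, a ≠ 1 → ∀ v, σ a v - v ∈ Z → v ∈ fixS σ A := fun a ha ha1 v hz =>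
    key2 a ha (fun e => ha1 (by rwa [hQ, Subgroup.mem_bot] at e)) v (hYtop v) hz
  have hsum : ∀ x, x ∉ M → fixS σ A ⊔ fixS σ (cj A x) = ⊤ := fun x hx =>
    eq_top_iff.2 fun v _ =>
      (sup_le_sup (inf_le_right : Y ⊓ fixS σ A ≤ fixS σ A) (inf_le_right : Y ⊓ fixS σ (cj A x) ≤ fixS σ (cj A x)) :
        (Y ⊓ fixS σ A) ⊔ (Y ⊓ fixS σ (cj A x)) ≤ fixS σ A ⊔ fixS σ (cj A x)) (hsplit x hx (hYtop v))
  have honto : ∀ x, x ∉ M → ∀ l ∈ fixS σ (cj A x), l ∉ Z → ∀ k ∈ fixS σ A, ∃ a ∈ A, σ a l - l - k ∈ Z := by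
    intro x hx l hl hlZ k hk
    obtain ⟨a, ha⟩ := h.embed_surj (fun a : ↥A => σ x (σ (a : P) l - l))
      (hsep' x hx l (hYtop l) hl hlZ) (σ x k)
    refine ⟨a, a.2, ?_⟩
    rw [← map_sub] at ha
    have h1 : σ x (k - (σ (a : P) l - l)) ∈ Z :=
      h.fix_inf hx ha (apply_mem_fix_cj x (sub_mem hk (h.comm_mem_fix a.2 l)))
    have h2 : k - (σ (a : P) l - l) ∈ Z := by
      rw [← app_inv_self (σ := σ) x (k - (σ (a : P) l - l)), apply_mem_fix_top x⁻¹ h1]
      exact h1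
    have := neg_mem h2
    rwa [neg_sub] at this
  refine ⟨hQ, free, hsum, honto, fun m hm k hk => ?_⟩
  obtain ⟨k', hk', l, hl, hkl⟩ := AddSubgroup.mem_sup.1 ((hsum x₀ hx₀).ge (AddSubgroup.mem_top (σ m k)))
  by_cases hlZ : l ∈ Z
  · rw [← hkl]; exact add_mem hk' (fix_le le_top hlZ)
  exfalso
  obtain ⟨a, ha, haz⟩ := honto x₀ hx₀ l hl hlZ k' hk'
  set z := σ a l - l - k' with hz
  have hu : σ m k = σ a l - z := by rw [← hkl, hz]; abel
  have hg : m⁻¹ * a * x₀ ∉ M := fun e => hx₀ (by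
    have := mul_mem (inv_mem (mul_mem (inv_mem hm) (h.le_M ha))) e
    rwa [show (m⁻¹ * a)⁻¹ * (m⁻¹ * a * x₀) = x₀ by group] at this)
  have hk2 : k ∈ fixS σ (cj A (m⁻¹ * a * x₀)) := by
    rw [← app_inv_self (σ := σ) m k, hu, ← cj_cj, map_sub]
    refine sub_mem ?_ (by rw [apply_mem_fix_top _ haz]; exact fix_le le_top haz)
    rw [← app_mul]
    exact apply_mem_fix_cj _ hl
  have hkZ : k ∈ Z := h.fix_inf hg hk hk2
  rw [apply_mem_fix_top m hkZ] at hkl
  refine hlZ (h.fix_inf hx₀ ?_ hl)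
  rw [show l = k - k' by rw [← hkl]; abel]
  exact sub_mem hk hk'

end Cfsg.Agent.OffenderSL2
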