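import Cfsg.Agent.Lib.OffenderSL2.Setting
import Cfsg.Agent.Lib.JordanDiv.Commutative
import Cfsg.Agent.Lib.SL2Natural.Basic

/-!
* `closed_of_pair`: two subgroups exchanged by inversion form a division Jordan subgroup
* `exists_model`: a finite subring that is a field, as a field on a small type
* `Spread`: two abelian groups acting simply transitively on each other's fixed space
* `Spread.exists_sl2`: such a group is `SL₂` of a field on its natural module
-/

set_option autoImplicit false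

namespace Cfsg.Agent.OffenderSL2

open Quadratic (upperE lowerE upperE_val lowerE_val)

section Ring

variable {R : Type*} [Ring R] [Finite R] [Nontrivial R]

/-- Inversion carrying `S` to `T` makes `S` a division Jordan subgroup, equal to `T`. -/
theorem closed_of_pair {p : ℕ} (hp : p.Prime) (hc : (p : R) = 0) (S T : AddSubgroup R)
    (hcard : Nat.card ↥S = Nat.card ↥T) (h1 : (1 : R) ∈ S)
    (hinv : ∀ s ∈ S, s ≠ 0 → ∃ t ∈ T, s * t = 1 ∧ t * s = 1) : JordanDiv.Closed p S ∧ S = T := by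
  classical
  have hback : ∀ t ∈ T, t ≠ 0 → ∃ s ∈ S, s * t = 1 ∧ t * s = 1 := by
    choose f hfT hf1 hf2 using hinv
    let g : ↥S → ↥T := fun s => if hs : (s : R) = 0 then 0 else ⟨f s s.2 hs, hfT s s.2 hs⟩
    have hg : Function.Injective g := by
      intro s s' hss
      by_cases hs : (s : R) = 0 <;> by_cases hs' : (s' : R) = 0
      · exact Subtype.ext (hs.trans hs'.symm)
      · exfalso
        have h2 : f (s' : R) s'.2 hs' = 0 := by
          simp only [g, dif_pos hs, dif_neg hs'] at hss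
          exact (congrArg Subtype.val hss).symm
        have := hf1 s' s'.2 hs'
        rw [h2, mul_zero] at this
        exact zero_ne_one this
      · exfalso
        have h2 : f (s : R) s.2 hs = 0 := by
          simp only [g, dif_pos hs', dif_neg hs] at hss
          exact congrArg Subtype.val hss
        have := hf1 s s.2 hs
        rw [h2, mul_zero] at this
        exact zero_ne_one this
      · have h2 : f (s : R) s.2 hs = f (s' : R) s'.2 hs' := by
          simp only [g, dif_neg hs, dif_neg hs'] at hss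
          exact congrArg Subtype.val hss
        refine Subtype.ext ?_
        calc (s : R) = s * (f (s' : R) s'.2 hs' * s') := by rw [hf2, mul_one]
          _ = s' := by rw [← h2, ← mul_assoc, hf1, one_mul]
    have hb := (Nat.bijective_iff_injective_and_card g).2 ⟨hg, hcard⟩
    intro t ht ht0
    obtain ⟨s, hs⟩ := hb.2 ⟨t, ht⟩
    by_cases hs0 : (s : R) = 0
    · exfalso
      refine ht0 ?_
      simp only [g, dif_pos hs0] at hs
      exact (congrArg Subtype.val hs).symm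
    · have h2 : f (s : R) s.2 hs0 = t := by
        simp only [g, dif_neg hs0] at hs
        exact congrArg Subtype.val hs
      exact ⟨s, s.2, h2 ▸ hf1 s s.2 hs0, h2 ▸ hf2 s s.2 hs0⟩
  have haba : ∀ a ∈ S, ∀ b ∈ T, a * b * a ∈ S := by
    intro a ha b hb
    by_cases ha0 : a = 0
    · rw [ha0, mul_zero]; exact zero_mem S
    by_cases hb0 : b = 0
    · rw [hb0, mul_zero, zero_mul]; exact zero_mem S
    obtain ⟨b', hb', h1b, h2b⟩ := hback b hb hb0
    by_cases hc0 : b' - a = 0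
    · rw [← sub_eq_zero.1 hc0, h1b, one_mul]; exact hb'
    obtain ⟨a', ha', haa, -⟩ := hinv a ha ha0
    obtain ⟨c', hc', hcc, -⟩ := hinv _ (sub_mem hb' ha) hc0
    have h3 : (a - a * b * a) * (a' + c') = 1 := by
      calc (a - a * b * a) * (a' + c')
          = a * a' - a * b * (a * a') + a * (1 - b * a) * c' := by noncomm_ring
        _ = 1 - a * b + a * (b * (b' - a)) * c' := by rw [haa, mul_sub b b' a, h2b, mul_one]
        _ = 1 := by rw [mul_assoc a (b * (b' - a)) c', mul_assoc b (b' - a) c', hcc, mul_one, sub_add_cancel]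
    have hne : a' + c' ≠ 0 := fun e => by rw [e, mul_zero] at h3; exact zero_ne_one h3
    obtain ⟨u, hu, -, hu2⟩ := hback _ (add_mem ha' hc') hne
    have h4 : a - a * b * a = u := by
      calc a - a * b * a = (a - a * b * a) * ((a' + c') * u) := by rw [hu2, mul_one]
        _ = u := by rw [← mul_assoc, h3, one_mul]
    rw [show a * b * a = a - u by rw [← h4, sub_sub_cancel]]
    exact sub_mem ha hu
  have hle : T ≤ S := fun b hb => by simpa using haba 1 h1 b hb
  have heq : S = T := (AddSubgroup.eq_of_le_of_card_ge hle hcard.le).symm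
  subst heq
  exact ⟨⟨hp, hc, h1, hinv, haba⟩, rfl⟩

end Ring

/-- A uniform exponent. -/
theorem exists_exponent {M : Type*} [AddCommGroup M] [Finite M] {p : ℕ}
    (h : ∀ v : M, ∃ k : ℕ, p ^ k • v = 0) : ∃ N : ℕ, ∀ v : M, p ^ N • v = 0 := by
  classical
  have := Fintype.ofFinite M
  choose k hk using h
  refine ⟨Finset.univ.sup k, fun v => ?_⟩
  obtain ⟨j, hj⟩ := Nat.le.dest (Finset.le_sup (f := k) (Finset.mem_univ v))
  rw [← hj, pow_add, mul_comm, mul_nsmul', hk, smul_zero]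

/-- A small copy of `Fin n`, without instances. -/
def FinModel (n : ℕ) : Type := Fin n

/-- A finite subring that is a field, as a field on a small type. -/
theorem exists_model {R : Type*} [Ring R] (E : Subring R) [Finite ↥E] (hE : IsField ↥E) :
    ∃ (F : Type) (_ : Field F) (_ : Fintype F) (ι : F →+* R), Function.Injective ι ∧
      Fintype.card F = Nat.card ↥E ∧ ∀ x, x ∈ E ↔ ∃ t, ι t = x := by
  classical
  let e : FinModel (Nat.card ↥E) ≃ ↥E := (Finite.equivFinOfCardEq rfl).symm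
  letI := hE.toField
  letI : Field (FinModel (Nat.card ↥E)) := e.field
  letI : Fintype (FinModel (Nat.card ↥E)) := Fintype.ofEquiv (Fin (Nat.card ↥E)) (Equiv.refl _)
  refine ⟨FinModel (Nat.card ↥E), inferInstance, inferInstance, E.subtype.comp e.ringEquiv.toRingHom,
    fun x y hxy => e.injective (Subtype.ext hxy), ?_, fun x => ⟨fun hx => ?_, ?_⟩⟩
  · rw [← Nat.card_eq_fintype_card]; exact Nat.card_congr e
  · exact ⟨e.symm ⟨x, hx⟩, congrArg Subtype.val (e.apply_symm_apply ⟨x, hx⟩)⟩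
  · rintro ⟨t, rfl⟩
    exact (e t).2

variable {P : Type*} [Group P] {W : Type*} [AddCommGroup W] (σ : P →* AddMonoid.End W)

/-- The data. -/
structure Spread (A B : Subgroup P) (K L : AddSubgroup W) : Prop where
  gen : A ⊔ B = ⊤
  faith : Function.Injective σ
  inf : K ⊓ L = ⊥
  sup : K ⊔ L = ⊤
  ne : K ≠ ⊥
  neL : L ≠ ⊥
  card : Nat.card ↥A = Nat.card ↥B
  fixK : ∀ a ∈ A, ∀ k ∈ K, σ a k = k
  fixL : ∀ b ∈ B, ∀ l ∈ L, σ b l = l
  intoK : ∀ a ∈ A, ∀ l ∈ L, σ a l - l ∈ K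
  intoL : ∀ b ∈ B, ∀ k ∈ K, σ b k - k ∈ L
  ontoK : ∀ l ∈ L, l ≠ 0 → ∀ k ∈ K, ∃ a ∈ A, σ a l - l = k
  ontoL : ∀ k ∈ K, k ≠ 0 → ∀ l ∈ L, ∃ b ∈ B, σ b k - k = l
  freeA : ∀ a ∈ A, a ≠ 1 → ∀ l ∈ L, σ a l = l → l = 0
  freeB : ∀ b ∈ B, b ≠ 1 → ∀ k ∈ K, σ b k = k → k = 0
  transfer : ∀ a ∈ A, a ≠ 1 → ∃ b ∈ B, ∀ k ∈ K, ∃ l ∈ L, σ a l = σ b k

variable {σ} {A B : Subgroup P} {K L : AddSubgroup W}

theorem sub_mul_app {a b : P} {w : W} (h : σ a (σ b w - w) = σ b w - w) :
    σ (a * b) w - w = (σ a w - w) + (σ b w - w) := by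
  rw [app_mul, ← h, map_sub]; abel

/-- Simply transitive on the fixed space. -/
theorem card_of_onto (A : Subgroup P) (K : AddSubgroup W) (l : W)
    (hinto : ∀ a ∈ A, σ a l - l ∈ K) (honto : ∀ k ∈ K, ∃ a ∈ A, σ a l - l = k)
    (hfree : ∀ a ∈ A, σ a l = l → a = 1) : Nat.card ↥A = Nat.card ↥K := by
  refine Nat.card_congr (Equiv.ofBijective (fun a : ↥A => (⟨σ (a : P) l - l, hinto a a.2⟩ : ↥K))
    ⟨fun a b hab => ?_, fun k => ?_⟩)
  · have hab' : σ (a : P) l = σ (b : P) l := sub_left_injective (congrArg Subtype.val hab)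
    have := hfree _ (a⁻¹ * b).2 (by rw [Subgroup.coe_mul, Subgroup.coe_inv, app_mul, ← hab', app_inv_self])
    exact inv_mul_eq_one.1 (Subtype.ext this)
  · obtain ⟨a, ha, hak⟩ := honto k k.2
    exact ⟨⟨a, ha⟩, Subtype.ext hak⟩

theorem Spread.exists_sl2 [Finite P] [Finite W] {p : ℕ} [Fact p.Prime] (hp : ∀ w : W, ∃ k : ℕ, p ^ k • w = 0)
    (h : Spread σ A B K L) :
    ∃ (F : Type) (_ : Field F) (_ : Fintype F), Fintype.card F = Nat.card ↥A ∧
      ∃ (e : P ≃* Matrix.SpecialLinearGroup (Fin 2) F) (Φ : (Fin 2 → F) ≃+ W),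
        ∀ g v, σ g (Φ v) = Φ ((e g).1.mulVec v) := by
  classical
  have : Finite (AddMonoid.End ↥K) := JordanDiv.finite_end
  obtain ⟨k₀, hk₀⟩ := (AddSubgroup.ne_bot_iff_exists_ne_zero).1 h.ne
  obtain ⟨l₀, hl₀⟩ := (AddSubgroup.ne_bot_iff_exists_ne_zero).1 h.neL
  have hk₀' : (k₀ : W) ≠ 0 := fun e => hk₀ (Subtype.ext e)
  have hl₀' : (l₀ : W) ≠ 0 := fun e => hl₀ (Subtype.ext e)
  have : Nontrivial ↥K := ⟨⟨k₀, 0, hk₀⟩⟩
  have : Nontrivial (AddMonoid.End ↥K) := ⟨⟨1, 0, fun e => hk₀ (DFunLike.congr_fun e k₀)⟩⟩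
  have hKL : ∀ x, x ∈ K → x ∈ L → x = 0 := fun x hk hl => by
    have : x ∈ K ⊓ L := ⟨hk, hl⟩
    rwa [h.inf, AddSubgroup.mem_bot] at this
  obtain ⟨a₁, ha₁, ha₁k⟩ := h.ontoK l₀ l₀.2 hl₀' k₀ k₀.2
  have ha₁ne : a₁ ≠ 1 := fun e => hk₀' (by rw [← ha₁k, e, app_one, sub_self])
  have cardK : Nat.card ↥A = Nat.card ↥K := card_of_onto A K (l₀ : W)
    (fun a ha => h.intoK a ha l₀ l₀.2) (h.ontoK l₀ l₀.2 hl₀')
    fun a ha e => by_contra fun hne => hl₀' (h.freeA a ha hne l₀ l₀.2 e)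
  have cardL : Nat.card ↥B = Nat.card ↥L := card_of_onto B L (k₀ : W)
    (fun b hb => h.intoL b hb k₀ k₀.2) (h.ontoL k₀ k₀.2 hk₀')
    fun b hb e => by_contra fun hne => hk₀' (h.freeB b hb hne k₀ k₀.2 e)
  let jh : ↥L →+ ↥K := AddMonoidHom.mk' (fun l => ⟨σ a₁ (l : W) - l, h.intoK a₁ ha₁ l l.2⟩) fun l l' =>
    Subtype.ext (show σ a₁ ((l : W) + l') - (l + l') = (σ a₁ (l : W) - l) + (σ a₁ (l' : W) - l') by
      rw [map_add, add_sub_add_comm])
  have hjb : Function.Bijective jh := (Nat.bijective_iff_injective_and_card _).2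
    ⟨(injective_iff_map_eq_zero jh).2 fun l hl =>
      Subtype.ext (h.freeA a₁ ha₁ ha₁ne l l.2 (sub_eq_zero.1 (congrArg Subtype.val hl))),
    cardL ▸ cardK ▸ h.card.symm⟩
  let j : ↥L ≃+ ↥K := AddEquiv.ofBijective jh hjb
  have hj : ∀ l, (j l : W) = σ a₁ (l : W) - l := fun l => rfl
  -- the two spaces of maps
  let α : ↥A → AddMonoid.End ↥K := fun a =>
    AddMonoidHom.mk' (fun k => ⟨σ (a : P) (j.symm k : W) - j.symm k, h.intoK a a.2 _ (j.symm k).2⟩) fun k k' =>
      Subtype.ext (show σ (a : P) (j.symm (k + k') : W) - j.symm (k + k') =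
        (σ (a : P) (j.symm k : W) - j.symm k) + (σ (a : P) (j.symm k' : W) - j.symm k') by
        rw [map_add, AddSubgroup.coe_add, map_add, add_sub_add_comm])
  let β : ↥B → AddMonoid.End ↥K := fun b =>
    AddMonoidHom.mk' (fun k => j ⟨σ (b : P) (k : W) - k, h.intoL b b.2 k k.2⟩) fun k k' => by
      rw [← map_add]
      exact congrArg j (Subtype.ext (show σ (b : P) ((k : W) + k') - (k + k') =
        (σ (b : P) (k : W) - k) + (σ (b : P) (k' : W) - k') by rw [map_add, add_sub_add_comm]))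
  have hαv : ∀ a k, (α a k : W) = σ (a : P) (j.symm k : W) - j.symm k := fun a k => rfl
  have hβv : ∀ b k, β b k = j ⟨σ (b : P) (k : W) - k, h.intoL b b.2 k k.2⟩ := fun b k => rfl
  have hαmul : ∀ a a', α (a * a') = α a + α a' := fun a a' => AddMonoidHom.ext fun k => Subtype.ext
    (show σ ((a : P) * a') (j.symm k : W) - j.symm k = _ + _ from
      sub_mul_app (h.fixK a a.2 _ (h.intoK a' a'.2 _ (j.symm k).2)))
  have hβmul : ∀ b b', β (b * b') = β b + β b' := fun b b' => AddMonoidHom.ext fun k => by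
    show β (b * b') k = β b k + β b' k
    rw [hβv, hβv, hβv, ← map_add]
    exact congrArg j (Subtype.ext (show σ ((b : P) * b') (k : W) - k = _ + _ from
      sub_mul_app (h.fixL b b.2 _ (h.intoL b' b'.2 _ k.2))))
  have hdecomp : ∀ w : W, ∃ (k : ↥K) (l : ↥L), (k : W) + l = w := fun w => by
    obtain ⟨k, hk, l, hl, he⟩ := AddSubgroup.mem_sup.1 (h.sup.ge (AddSubgroup.mem_top w))
    exact ⟨⟨k, hk⟩, ⟨l, hl⟩, he⟩
  have hαinj : ∀ a, α a = 0 → a = 1 := fun a ha => Subtype.ext (by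
    by_contra hne
    have h1 : σ (a : P) (l₀ : W) = l₀ := by
      have := congrArg Subtype.val (DFunLike.congr_fun ha (j l₀))
      rw [hαv, j.symm_apply_apply] at this
      exact sub_eq_zero.1 this
    exact hl₀' (h.freeA a a.2 hne l₀ l₀.2 h1))
  have hβinj : ∀ b, β b = 0 → b = 1 := fun b hb => Subtype.ext (by
    by_contra hne
    have h1 : σ (b : P) (k₀ : W) = k₀ := by
      have := DFunLike.congr_fun hb k₀
      rw [hβv] at this
      exact sub_eq_zero.1 (congrArg Subtype.val ((EmbeddingLike.map_eq_zero_iff (f := j)).1 this))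
    exact hk₀' (h.freeB b b.2 hne k₀ k₀.2 h1))
  let αh : Additive ↥A →+ AddMonoid.End ↥K := AddMonoidHom.mk' (fun a => α a.toMul) fun a a' => hαmul _ _
  let βh : Additive ↥B →+ AddMonoid.End ↥K := AddMonoidHom.mk' (fun b => β b.toMul) fun b b' => hβmul _ _
  have cardS : Nat.card ↥αh.range = Nat.card ↥A :=
    (Nat.card_congr (AddMonoidHom.ofInjective ((injective_iff_map_eq_zero αh).2
      fun a ha => hαinj _ ha)).toEquiv).symm
  have cardT : Nat.card ↥βh.range = Nat.card ↥B :=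
    (Nat.card_congr (AddMonoidHom.ofInjective ((injective_iff_map_eq_zero βh).2
      fun b hb => hβinj _ hb)).toEquiv).symm
  have hα₁ : α ⟨a₁, ha₁⟩ = 1 := AddMonoidHom.ext fun k => Subtype.ext
    (show σ a₁ (j.symm k : W) - j.symm k = (k : W) by rw [← hj, j.apply_symm_apply])
  have hinv : ∀ s ∈ αh.range, s ≠ 0 → ∃ t ∈ βh.range, s * t = 1 ∧ t * s = 1 := by
    rintro s ⟨a, rfl⟩ hs
    have ha1 : (a.toMul : P) ≠ 1 := fun e => hs (by
      have : a = 0 := Subtype.ext e
      rw [this, map_zero])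
    obtain ⟨b, hb, hbk⟩ := h.transfer _ a.toMul.2 ha1
    have h1 : α a.toMul * β ⟨b, hb⟩ = 1 := by
      refine AddMonoidHom.ext fun k => Subtype.ext ?_
      obtain ⟨l, hl, hlk⟩ := hbk k k.2
      show σ (a.toMul : P) (j.symm (β ⟨b, hb⟩ k) : W) - j.symm (β ⟨b, hb⟩ k) = (k : W)
      rw [hβv, j.symm_apply_apply]
      have e2 : σ (a.toMul : P) l - l - k = σ b (k : W) - k - l := by rw [hlk]; abel
      have e0 : σ (a.toMul : P) l - l - k = 0 := hKL _ (sub_mem (h.intoK _ a.toMul.2 l hl) k.2)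
        (e2 ▸ sub_mem (h.intoL b hb k k.2) hl)
      rw [e0] at e2
      show σ (a.toMul : P) (σ b (k : W) - k) - (σ b (k : W) - k) = (k : W)
      rw [sub_eq_zero.1 e2.symm]
      exact sub_eq_zero.1 e0
    refine ⟨β ⟨b, hb⟩, ⟨Additive.ofMul ⟨b, hb⟩, rfl⟩, h1, ?_⟩
    have hsu : Function.Surjective (α a.toMul) := fun k => ⟨β ⟨b, hb⟩ k, DFunLike.congr_fun h1 k⟩
    exact AddMonoidHom.ext fun k => (Finite.injective_iff_surjective.2 hsu) (DFunLike.congr_fun h1 (α a.toMul k))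
  obtain ⟨hclosed, hST⟩ := closed_of_pair (p := p) Fact.out
    (by
      obtain ⟨N, hN⟩ := exists_exponent hp
      have hpN : ((p : AddMonoid.End ↥K)) ^ N = 0 := by
        refine DFunLike.ext _ _ fun k => Subtype.ext ?_
        rw [← Nat.cast_pow, AddMonoid.End.natCast_apply]
        exact hN (k : W)
      by_contra hne
      have hmem : (p : AddMonoid.End ↥K) ∈ αh.range := by
        rw [← nsmul_one]
        exact AddSubgroup.nsmul_mem _ (hα₁ ▸ ⟨Additive.ofMul ⟨a₁, ha₁⟩, rfl⟩) p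
      obtain ⟨t, -, h1, -⟩ := hinv _ hmem hne
      have h2 := (Nat.cast_commute p t).mul_pow N
      rw [h1, one_pow, hpN, zero_mul] at h2
      exact one_ne_zero h2)
    αh.range βh.range (by rw [cardS, cardT, h.card]) ⟨Additive.ofMul ⟨a₁, ha₁⟩, hα₁⟩ hinv
  obtain ⟨E, hE, hEf, -⟩ := hclosed.exists_field
  obtain ⟨F, _, _, ι, hι, hFcard, hιE⟩ := exists_model E hEf
  have hFA : Fintype.card F = Nat.card ↥A := by
    rw [hFcard, ← cardS]
    exact Nat.card_congr (Equiv.subtypeEquivRight hE)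
  have hαι : ∀ a, ∃ t, ι t = α a := fun a => (hιE _).1 ((hE _).2 ⟨Additive.ofMul a, rfl⟩)
  have hιβ : ∀ b, ∃ t, ι t = β b := fun b => (hιE _).1 ((hE _).2 (hST ▸ ⟨Additive.ofMul b, rfl⟩))
  have hια : ∀ t, ∃ a, α a = ι t := fun t => by
    obtain ⟨a, ha⟩ := (hE _).1 ((hιE _).2 ⟨t, rfl⟩); exact ⟨a.toMul, ha⟩
  have hβι : ∀ t, ∃ b, β b = ι t := fun t => by
    obtain ⟨b, hb⟩ := (hST ▸ (hE _).1 ((hιE _).2 ⟨t, rfl⟩) : ι t ∈ βh.range); exact ⟨b.toMul, hb⟩
  -- coordinates
  let ev : F →+ ↥K := AddMonoidHom.mk' (fun t => ι t k₀) fun t t' => by rw [map_add]; rfl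
  have hev : Function.Bijective ev := by
    refine (Nat.bijective_iff_injective_and_card _).2 ⟨(injective_iff_map_eq_zero ev).2 fun t ht => ?_, ?_⟩
    · by_contra ht0
      refine hk₀ ?_
      calc k₀ = ι (t⁻¹ * t) k₀ := by rw [inv_mul_cancel₀ ht0, map_one]; rfl
        _ = ι t⁻¹ (ev t) := by rw [map_mul]; rfl
        _ = 0 := by rw [ht, map_zero]
    · rw [Nat.card_eq_fintype_card, hFA, cardK]
  let Φh : (Fin 2 → F) →+ W := AddMonoidHom.mk' (fun v => (ev (v 0) : W) + (j.symm (ev (v 1)) : W)) fun v w => by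
    simp only [Pi.add_apply, map_add, AddSubgroup.coe_add]; abel
  have hΦb : Function.Bijective Φh := by
    refine ⟨(injective_iff_map_eq_zero Φh).2 fun v hv => ?_, fun w => ?_⟩
    · have e1 : (ev (v 0) : W) = 0 := hKL _ (ev (v 0)).2 (by
        rw [eq_neg_of_add_eq_zero_left hv]; exact neg_mem (j.symm (ev (v 1))).2)
      have e2 : (j.symm (ev (v 1)) : W) = 0 := by
        have : (ev (v 0) : W) + j.symm (ev (v 1)) = 0 := hv
        rwa [e1, zero_add] at this
      have f0 : v 0 = 0 := hev.1 (by rw [map_zero]; exact Subtype.ext e1)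
      have f1 : v 1 = 0 := hev.1 (by
        rw [map_zero]; exact (EmbeddingLike.map_eq_zero_iff (f := j.symm)).1 (Subtype.ext e2))
      funext i
      fin_cases i
      · exact f0
      · exact f1
    · obtain ⟨k, l, rfl⟩ := hdecomp w
      obtain ⟨s, hs⟩ := hev.2 k
      obtain ⟨t, ht⟩ := hev.2 (j l)
      refine ⟨![s, t], ?_⟩
      show (ev s : W) + (j.symm (ev t) : W) = k + l
      rw [hs, ht, j.symm_apply_apply]
  let Φ : (Fin 2 → F) ≃+ W := AddEquiv.ofBijective Φh hΦb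
  have hΦ : ∀ v, Φ v = (ev (v 0) : W) + (j.symm (ev (v 1)) : W) := fun v => rfl
  let θ : Matrix.SpecialLinearGroup (Fin 2) F →* AddMonoid.End W :=
    { toFun := fun g => AddMonoidHom.mk' (fun w => Φ (g.1.mulVec (Φ.symm w))) fun w w' => by
        rw [map_add, Matrix.mulVec_add, map_add]
      map_one' := AddMonoidHom.ext fun w => by
        show Φ ((1 : Matrix (Fin 2) (Fin 2) F).mulVec (Φ.symm w)) = w
        rw [Matrix.one_mulVec, Φ.apply_symm_apply]
      map_mul' := fun g g' => AddMonoidHom.ext fun w => by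
        show Φ ((g.1 * g'.1).mulVec (Φ.symm w)) = Φ (g.1.mulVec (Φ.symm (Φ (g'.1.mulVec (Φ.symm w)))))
        rw [Φ.symm_apply_apply, Matrix.mulVec_mulVec] }
  have hθv : ∀ g v, θ g (Φ v) = Φ (g.1.mulVec v) := fun g v => by
    show Φ (g.1.mulVec (Φ.symm (Φ v))) = _
    rw [Φ.symm_apply_apply]
  have hθ : Function.Injective θ := fun g g' hgg => Subtype.ext (Matrix.ext_of_mulVec_single fun i =>
    Φ.injective (by rw [← hθv, ← hθv, hgg]))
  have hA : ∀ (a : ↥A) (t : F), ι t = α a → σ (a : P) = θ (upperE t) := by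
    intro a t ht
    refine AddMonoidHom.ext fun w => ?_
    obtain ⟨v, rfl⟩ := Φ.surjective w
    show σ (a : P) (Φ v) = θ (upperE t) (Φ v)
    rw [hθv, upperE_val, hΦ, hΦ, map_add, h.fixK a a.2 _ (ev (v 0)).2]
    have h1 : σ (a : P) (j.symm (ev (v 1)) : W) = (ev (t * v 1) : W) + j.symm (ev (v 1)) := by
      have : ev (t * v 1) = α a (ev (v 1)) := by
        show ι (t * v 1) k₀ = α a (ι (v 1) k₀); rw [map_mul, ht]; rfl
      rw [this, hαv, sub_add_cancel]
    rw [h1]
    simp [dotProduct, Fin.sum_univ_two, map_add, add_assoc]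
  have hB : ∀ (b : ↥B) (t : F), ι t = β b → σ (b : P) = θ (lowerE t) := by
    intro b t ht
    refine AddMonoidHom.ext fun w => ?_
    obtain ⟨v, rfl⟩ := Φ.surjective w
    show σ (b : P) (Φ v) = θ (lowerE t) (Φ v)
    rw [hθv, lowerE_val, hΦ, hΦ, map_add, h.fixL b b.2 _ (j.symm (ev (v 1))).2]
    have h1 : σ (b : P) (ev (v 0) : W) = (ev (v 0) : W) + j.symm (ev (t * v 0)) := by
      have : ev (t * v 0) = β b (ev (v 0)) := by
        show ι (t * v 0) k₀ = β b (ι (v 0) k₀); rw [map_mul, ht]; rfl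
      rw [this, hβv, j.symm_apply_apply, add_sub_cancel]
    rw [h1]
    simp [dotProduct, Fin.sum_univ_two, map_add, add_assoc]
  have hto : ∀ g : P, ∃ m, θ m = σ g := by
    intro g
    have hg : g ∈ Submonoid.closure ((A : Set P) ∪ (B : Set P)) := by
      rw [← Subgroup.closure_toSubmonoid_of_finite, Subgroup.mem_toSubmonoid, ← Subgroup.sup_eq_closure, h.gen]
      exact Subgroup.mem_top g
    induction hg using Submonoid.closure_induction with
    | mem y hy =>
      rcases hy with hy | hy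
      · obtain ⟨t, ht⟩ := hαι ⟨y, hy⟩
        exact ⟨_, (hA _ t ht).symm⟩
      · obtain ⟨t, ht⟩ := hιβ ⟨y, hy⟩
        exact ⟨_, (hB _ t ht).symm⟩
    | one => exact ⟨1, by rw [map_one, map_one]⟩
    | mul a b _ _ iha ihb =>
      obtain ⟨m, hm⟩ := iha
      obtain ⟨n, hn⟩ := ihb
      exact ⟨m * n, by rw [map_mul, map_mul, hm, hn]⟩
  have hfrom : ∀ m, ∃ g, σ g = θ m := by
    intro m
    induction SL2Natural.mem_mclosure m using Submonoid.closure_induction with
    | mem y hy =>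
      rcases hy with ⟨t, rfl⟩ | ⟨t, rfl⟩
      · obtain ⟨a, ha⟩ := hια t
        exact ⟨_, hA a t ha.symm⟩
      · obtain ⟨b, hb⟩ := hβι t
        exact ⟨_, hB b t hb.symm⟩
    | one => exact ⟨1, by rw [map_one, map_one]⟩
    | mul a b _ _ iha ihb =>
      obtain ⟨m, hm⟩ := iha
      obtain ⟨n, hn⟩ := ihb
      exact ⟨m * n, by rw [map_mul, map_mul, hm, hn]⟩
  choose e he using hto
  let eh : P →* Matrix.SpecialLinearGroup (Fin 2) F :=
    MonoidHom.mk' e fun g g' => hθ (by rw [he, map_mul, map_mul, he, he])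
  have heb : Function.Bijective eh := by
    refine ⟨fun g g' hgg => h.faith (by rw [← he, ← he]; exact congrArg θ hgg), fun m => ?_⟩
    obtain ⟨g, hg⟩ := hfrom m
    exact ⟨g, hθ ((he g).trans hg)⟩
  refine ⟨F, inferInstance, inferInstance, hFA, MulEquiv.ofBijective eh heb, Φ, fun g v => ?_⟩
  rw [← he g, hθv]
  rfl

end Cfsg.Agent.OffenderSL2
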